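import Groth.Agent.AdelePts32.PIndep
import Groth.Agent.FF30.AD
import Mathlib.NumberTheory.FunctionField
import Mathlib.FieldTheory.IsSepClosed
import Mathlib.RingTheory.AlgebraicIndependent.Adjoin

/-!
# Field theory of global function fields in characteristic `p`
-/

set_option autoImplicit false

noncomputable section

namespace Groth.Agent.AdelePts32

open Polynomial

universe u

variable {p : ℕ} [hp : Fact p.Prime]

section Span

variable {k : Type u} [Field k] [CharP k p] [PerfectRing k p]

/-- Rational functions over a perfect field are spanned over `p`-th powers by powers of `X`. -/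
theorem ratFunc_span (a : RatFunc k) :
    ∃ h : Fin p → RatFunc k, a = ∑ j, h j ^ p * RatFunc.X ^ (j : ℕ) := by
  have : CharP (RatFunc k) p := charP_of_injective_ringHom (algebraMap k (RatFunc k)).injective p
  have hpoly : ∀ f : k[X], ∃ h : Fin p → RatFunc k,
      algebraMap k[X] (RatFunc k) f = ∑ j, h j ^ p * RatFunc.X ^ (j : ℕ) := by
    intro f
    induction f using Polynomial.induction_on' with
    | add f g hf hg =>
      obtain ⟨h, hh⟩ := hf
      obtain ⟨h', hh'⟩ := hg
      exact ⟨h + h', by simp [map_add, hh, hh', add_pow_char, add_mul, Finset.sum_add_distrib]⟩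
    | monomial n c =>
      refine ⟨Pi.single ⟨n % p, Nat.mod_lt _ hp.out.pos⟩
        (algebraMap k (RatFunc k) ((frobeniusEquiv k p).symm c) * RatFunc.X ^ (n / p)), ?_⟩
      rw [Finset.sum_eq_single ⟨n % p, Nat.mod_lt _ hp.out.pos⟩
        (fun j _ hj => by simp [Pi.single_eq_of_ne hj, zero_pow hp.out.ne_zero]) (by simp),
        Pi.single_eq_same, mul_pow, ← pow_mul, mul_assoc, ← pow_add, ← map_pow,
        frobeniusEquiv_symm_pow_p, mul_comm (n / p), add_comm, Nat.mod_add_div,
        ← Polynomial.C_mul_X_pow_eq_monomial, map_mul, map_pow, RatFunc.algebraMap_X,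
        RatFunc.algebraMap_C]
      rfl
  obtain ⟨h, hh⟩ := hpoly (a.num * a.denom ^ (p - 1))
  refine ⟨fun j => h j / algebraMap k[X] (RatFunc k) a.denom, ?_⟩
  have hd : algebraMap k[X] (RatFunc k) a.denom ≠ 0 :=
    (map_ne_zero_iff _ (IsFractionRing.injective k[X] (RatFunc k))).2 a.denom_ne_zero
  calc a = algebraMap k[X] (RatFunc k) (a.num * a.denom ^ (p - 1)) /
        algebraMap k[X] (RatFunc k) a.denom ^ p := by
        conv_lhs => rw [← RatFunc.num_div_denom a]
        rw [map_mul, map_pow, div_eq_div_iff hd (pow_ne_zero _ hd), mul_assoc, ← pow_succ,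
          Nat.sub_add_cancel hp.out.one_le]
    _ = _ := by
        rw [hh, Finset.sum_div]
        exact Finset.sum_congr rfl fun j _ => by rw [div_pow, div_mul_eq_mul_div]

variable {K : Type u} [Field K] [Algebra (RatFunc k) K] [FiniteDimensional (RatFunc k) K]

include k in
/-- A finite extension of `k(X)` is spanned over `p`-th powers by powers of any non-`p`-th power. -/
theorem pSpans [CharP K p] {π : K} (hπ : ∀ y : K, y ^ p ≠ π) : PSpans p π := by
  classical
  let L := RatFunc k
  have : CharP L p := charP_of_injective_ringHom (algebraMap k (RatFunc k)).injective p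
  let b := Module.finBasis L K
  let v : Fin (p + 1) → K → K := fun j a => Fin.cases a (fun i => π ^ (i : ℕ)) j
  intro a
  choose h hh using fun x : Fin (p + 1) × Fin (Module.finrank L K) =>
    fun i' => ratFunc_span (p := p) (b.repr (v x.1 a * b x.2 ^ p) i')
  let col : Fin (p + 1) × Fin (Module.finrank L K) → (Fin p × Fin (Module.finrank L K) → L) :=
    fun x ji => h x ji.2 ji.1
  obtain ⟨d, hd, hd0⟩ : ∃ d, Fintype.linearCombination L col d = 0 ∧ d ≠ 0 := by
    by_contra hne
    have hinj : Function.Injective (Fintype.linearCombination L col) :=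
      (injective_iff_map_eq_zero _).2 fun d hd => by_contra fun h0 => hne ⟨d, hd, h0⟩
    have := LinearMap.finrank_le_finrank_of_injective hinj
    simp only [Module.finrank_fintype_fun_eq_card, Fintype.card_prod, Fintype.card_fin] at this
    have hpos : 0 < Module.finrank L K := Module.finrank_pos
    nlinarith
  let c : Fin (p + 1) → K := fun j => ∑ i, algebraMap L K (d (j, i)) * b i
  have hsum : ∑ j, c j ^ p * v j a = 0 := by
    calc ∑ j, c j ^ p * v j a
        = ∑ x : Fin (p + 1) × Fin (Module.finrank L K),
            algebraMap L K (d x) ^ p * (v x.1 a * b x.2 ^ p) := by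
          rw [Fintype.sum_prod_type]
          refine Finset.sum_congr rfl fun j _ => ?_
          rw [sum_pow_char, Finset.sum_mul]
          exact Finset.sum_congr rfl fun i _ => by ring
      _ = ∑ ji : Fin p × Fin (Module.finrank L K),
            algebraMap L K ((∑ x, d x * col x ji) ^ p * RatFunc.X ^ (ji.1 : ℕ)) * b ji.2 := by
          simp only [sum_pow_char, map_mul, map_sum, Finset.sum_mul]
          rw [Finset.sum_comm (γ := Fin p × Fin (Module.finrank L K))]
          refine Finset.sum_congr rfl fun x _ => ?_
          conv_lhs => rw [← b.sum_repr (v x.1 a * b x.2 ^ p)]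
          rw [Fintype.sum_prod_type, Finset.sum_comm, Finset.mul_sum]
          refine Finset.sum_congr rfl fun i' _ => ?_
          conv_lhs => rw [hh x i', Algebra.smul_def, map_sum, Finset.sum_mul, Finset.mul_sum]
          refine Finset.sum_congr rfl fun j _ => ?_
          simp only [col, map_mul, map_pow, mul_pow]
          ring
      _ = 0 := by
          refine Finset.sum_eq_zero fun ji _ => ?_
          have := congrFun hd ji
          simp only [Fintype.linearCombination_apply, Finset.sum_apply, Pi.smul_apply,
            smul_eq_mul, Pi.zero_apply] at this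
          simp [this, zero_pow hp.out.ne_zero]
  have hc : ∀ j, c j = 0 → ∀ i, d (j, i) = 0 := fun j hj i =>
    congrFun (Fintype.linearIndependent_iff.1 b.linearIndependent (fun i => d (j, i)) (by
      simpa [c, Algebra.smul_def] using hj) |> funext) i
  rw [Fin.sum_univ_succ] at hsum
  have hc0 : c 0 ≠ 0 := by
    intro h0
    rw [h0, zero_pow hp.out.ne_zero, zero_mul, zero_add] at hsum
    have hrest := pIndep hπ (fun i => c i.succ) (by simpa [v] using hsum)
    refine hd0 (funext fun x => ?_)
    refine hc x.1 ?_ x.2
    exact Fin.cases h0 (fun i => congrFun hrest i) x.1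
  refine ⟨fun i => -(c i.succ) / c 0, ?_⟩
  have h2 : a * c 0 ^ p = -∑ i : Fin p, c i.succ ^ p * π ^ (i : ℕ) := by
    rw [eq_neg_iff_add_eq_zero, mul_comm]
    simpa [v] using hsum
  rw [eq_div_iff (pow_ne_zero p hc0) |>.2 h2, ← Finset.sum_neg_distrib, Finset.sum_div]
  refine Finset.sum_congr rfl fun i _ => ?_
  rw [div_pow, neg_pow, neg_one_pow_char]
  ring

end Span

section Translate

variable {K : Type u} [Field K] {F : Type u} [Field F] [Algebra K F]

/-- Extending an embedding along a separable algebraic extension. -/
theorem exists_extension (L : IntermediateField K F) [Algebra.IsSeparable L F] {Ω : Type u}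
    [Field Ω] [Algebra K Ω] [IsSepClosed Ω] (τ : L →ₐ[K] Ω) :
    ∃ σ : F →ₐ[K] Ω, ∀ x : L, σ x = τ x := by
  let : Algebra L Ω := τ.toRingHom.toAlgebra
  have : IsScalarTower K L Ω := IsScalarTower.of_algebraMap_eq fun x => (τ.commutes x).symm
  exact ⟨(IsSepClosed.lift : F →ₐ[L] Ω).restrictScalars K, fun x =>
    (IsSepClosed.lift : F →ₐ[L] Ω).commutes x⟩

/-- Translations of a separating transcendence element. -/
theorem exists_translate {s : Finset F} (hs : IsTranscendenceBasis K ((↑) : s → F))
    [Algebra.IsSeparable (IntermediateField.adjoin K (s : Set F)) F] {Ω : Type u} [Field Ω]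
    [Algebra K Ω] [Algebra F Ω] [IsScalarTower K F Ω] [IsSepClosed Ω] {t : F} (ht : t ∈ s)
    (δ : K) : ∃ σ : F →ₐ[K] Ω, σ t = algebraMap F Ω t + algebraMap K Ω δ := by
  classical
  let x : s → F := (↑)
  have hx : AlgebraicIndependent K x := hs.1
  let d : s → K := fun i => if i = ⟨t, ht⟩ then δ else 0
  let sh : MvPolynomial s K →ₐ[K] MvPolynomial s K :=
    MvPolynomial.aeval fun i => MvPolynomial.X i + MvPolynomial.C (d i)
  let sh' : MvPolynomial s K →ₐ[K] MvPolynomial s K :=
    MvPolynomial.aeval fun i => MvPolynomial.X i - MvPolynomial.C (d i)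
  have hsh : Function.Injective sh := by
    have : sh'.comp sh = AlgHom.id K _ := MvPolynomial.algHom_ext fun i => by simp [sh, sh']
    exact Function.LeftInverse.injective (g := sh') fun q => AlgHom.congr_fun this q
  let i0 : MvPolynomial s K →ₐ[K] Ω := (IsScalarTower.toAlgHom K F Ω).comp (MvPolynomial.aeval x)
  have hi0 : Function.Injective i0 :=
    (algebraMap F Ω).injective.comp (algebraicIndependent_iff_injective_aeval.1 hx)
  let g : FractionRing (MvPolynomial s K) →ₐ[K] Ω :=
    IsFractionRing.liftAlgHom (g := i0.comp sh) (hi0.comp hsh)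
  have : Algebra.IsSeparable (IntermediateField.adjoin K (Set.range x)) F := by
    rw [show Set.range x = (s : Set F) from Subtype.range_coe]; infer_instance
  obtain ⟨σ, hσ⟩ := exists_extension (IntermediateField.adjoin K (Set.range x))
    (g.comp hx.aevalEquivField.symm.toAlgHom)
  refine ⟨σ, ?_⟩
  have h1 := hσ ⟨t, IntermediateField.subset_adjoin K _ ⟨⟨t, ht⟩, rfl⟩⟩
  have h2 : hx.aevalEquivField.symm
      ⟨t, IntermediateField.subset_adjoin K _ ⟨⟨t, ht⟩, rfl⟩⟩ =
      algebraMap (MvPolynomial s K) _ (MvPolynomial.X ⟨t, ht⟩) := by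
    rw [AlgEquiv.symm_apply_eq]
    refine Subtype.ext ?_
    rw [hx.aevalEquivField_algebraMap_apply_coe, MvPolynomial.aeval_X]
  refine h1.trans ?_
  simp only [AlgHom.comp_apply, AlgEquiv.coe_toAlgHom, h2, g, IsFractionRing.liftAlgHom_apply,
    IsFractionRing.lift_algebraMap]
  simp [sh, i0, x, d, IsScalarTower.algebraMap_apply K F Ω]

end Translate

section FunctionField

variable {k K : Type u} [Field k] [Field K] [Algebra (RatFunc k) K] [FiniteDimensional (RatFunc k) K]
  [Algebra k K] [IsScalarTower k (RatFunc k) K]

/-- Finitely many poles. -/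
theorem finite_poles (x : K) : {v : FunFld.Place k K | 1 < v.1 x}.Finite := by
  let t : K := algebraMap (RatFunc k) K RatFunc.X
  have ht : Transcendental k t := fun h =>
    (RatFunc.transcendental_X (K := k)) ((isAlgebraic_algebraMap_iff (algebraMap (RatFunc k) K).injective).1 h)
  let L := IntermediateField.adjoin k ({t} : Set K)
  have hmem : ∀ a : RatFunc k, algebraMap (RatFunc k) K a ∈ L := by
    intro a
    have hp : ∀ f : k[X], algebraMap (RatFunc k) K (algebraMap k[X] (RatFunc k) f) ∈ L := by
      intro f
      rw [show algebraMap k[X] (RatFunc k) f = Polynomial.aeval RatFunc.X f from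
        (RatFunc.aeval_X_left_eq_algebraMap f).symm, ← IsScalarTower.coe_toAlgHom' k (RatFunc k) K,
        ← Polynomial.aeval_algHom_apply]
      exact IntermediateField.algebra_adjoin_le_adjoin k _
        (Algebra.adjoin_singleton_eq_range_aeval k t ▸ ⟨f, rfl⟩)
    rw [← RatFunc.num_div_denom a, map_div₀]
    exact div_mem (hp _) (hp _)
  have : FiniteDimensional L K := by
    let : Algebra (RatFunc k) L := ((algebraMap (RatFunc k) K).codRestrict L.toSubfield hmem).toAlgebra
    have : IsScalarTower (RatFunc k) L K := IsScalarTower.of_algebraMap_eq fun _ => rfl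
    exact Module.Finite.of_restrictScalars_finite (RatFunc k) L K
  have h : FF30.FF k K := ⟨t, ht, this⟩
  refine (h.finite_support_ord x).subset fun v hv => ?_
  exact ((FF30.one_lt_val_iff v).1 hv).ne

end FunctionField

end Groth.Agent.AdelePts32
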