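import Groth.Agent.AdelePts32.Sep

/-!
# Points of a quasi-compact scheme with values in a restricted product
-/

set_option autoImplicit false
set_option backward.isDefEq.respectTransparency false

noncomputable section

universe u

open CategoryTheory CategoryTheory.Limits AlgebraicGeometry Opposite

namespace Groth.Agent.AdelePts32

variable {R : Type u} [CommRing R] (G : Over (Spec (CommRingCat.of R)))

/-- A quasi-compact scheme over an affine scheme receives a map from an affine scheme through which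
locally all morphisms lift. -/
theorem exists_affine_lift [QuasiCompact G.hom] :
    ∃ (C : CommRingCat.{u}) (q : Spec C ⟶ G.left),
      (LocallyOfFiniteType G.hom → LocallyOfFiniteType (q ≫ G.hom)) ∧
        ∀ p : G.left, ∃ V : G.left.Opens, p ∈ V ∧ ∀ (W : Scheme.{u}) (x : W ⟶ G.left),
          (∀ w, x w ∈ V) → ∃ z : W ⟶ Spec C, z ≫ q = x := by
  have : CompactSpace G.left := QuasiCompact.compactSpace_of_compactSpace G.hom
  let 𝒰 := G.left.affineCover.finiteSubcover
  let q0 : (∐ 𝒰.X) ⟶ G.left := Sigma.desc 𝒰.f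
  refine ⟨Γ(∐ 𝒰.X, ⊤), (∐ 𝒰.X).isoSpec.inv ≫ q0, fun h => ?_, fun p => ?_⟩
  · have : LocallyOfFiniteType q0 :=
      IsZariskiLocalAtSource.sigmaDesc (P := @LocallyOfFiniteType) fun i => inferInstance
    infer_instance
  · obtain ⟨i, z, hz⟩ := 𝒰.exists_eq p
    refine ⟨(𝒰.f i).opensRange, ⟨z, hz⟩, fun W x hx => ?_⟩
    have hr : Set.range x ⊆ Set.range (𝒰.f i) := by
      rintro _ ⟨w, rfl⟩
      exact hx w
    refine ⟨IsOpenImmersion.lift (𝒰.f i) x hr ≫ Sigma.ι 𝒰.X i ≫ (∐ 𝒰.X).isoSpec.hom, ?_⟩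
    simp [q0]

variable {A : Type u} [CommRing A] (φ : R →+* A) {ι : Type u} {B : ι → Type u}
  [∀ v, CommRing (B v)] (ψ : ∀ v, R →+* B v) (χ : ∀ v, A →+* B v) (hcomp : ∀ v, (χ v).comp φ = ψ v)

include hcomp in
/-- A family of local points, almost all integral, comes from a point over the restricted product. -/
theorem exists_glue [QuasiCompact G.hom] [G.left.IsSeparated] [∀ v, IsLocalRing (B v)]
    (hinj : ∀ a, (∀ v, χ v a = 0) → a = 0) (O : ∀ v, Subring (B v)) [∀ v, IsLocalRing (O v)]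
    (hsurj : ∀ b : ∀ v, B v, (∀ᶠ v in Filter.cofinite, b v ∈ O v) → ∃ a, ∀ v, χ v a = b v)
    (x : ∀ v, AdFn.specOf (ψ v) ⟶ G)
    (hx : ∀ᶠ v in Filter.cofinite, ∃ y : Spec (CommRingCat.of (O v)) ⟶ G.left,
      Spec.map (CommRingCat.ofHom (O v).subtype) ≫ y = (x v).left) :
    ∃ a : AdFn.specOf φ ⟶ G, ∀ v, AdFn.specOfHom φ (ψ v) (χ v) (hcomp v) ≫ a = x v := by
  classical
  obtain ⟨C, q, -, hq⟩ := exists_affine_lift G
  have hloc : ∀ (L : Type u) [CommRing L] [IsLocalRing L] (y : Spec (CommRingCat.of L) ⟶ G.left),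
      ∃ θ : C ⟶ CommRingCat.of L, Spec.map θ ≫ q = y := by
    intro L _ _ y
    obtain ⟨V, hV, hlift⟩ := hq (y (IsLocalRing.closedPoint L))
    have htop : y ⁻¹ᵁ V = ⊤ := (IsLocalRing.closed_point_mem_iff (U := y ⁻¹ᵁ V)).1 hV
    obtain ⟨z, hz⟩ := hlift _ y fun w => by
      have : w ∈ y ⁻¹ᵁ V := by rw [htop]; trivial
      exact this
    exact ⟨Spec.preimage z, by rw [Spec.map_preimage, hz]⟩
  have hall : ∀ v, ∃ θ : C ⟶ CommRingCat.of (B v), Spec.map θ ≫ q = (x v).left ∧
      ((∃ y : Spec (CommRingCat.of (O v)) ⟶ G.left,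
        Spec.map (CommRingCat.ofHom (O v).subtype) ≫ y = (x v).left) → ∀ c, θ c ∈ O v) := by
    intro v
    by_cases hv : ∃ y : Spec (CommRingCat.of (O v)) ⟶ G.left,
        Spec.map (CommRingCat.ofHom (O v).subtype) ≫ y = (x v).left
    · obtain ⟨y, hy⟩ := hv
      obtain ⟨θ, hθ⟩ := hloc (O v) y
      refine ⟨θ ≫ CommRingCat.ofHom (O v).subtype, by rw [Spec.map_comp, Category.assoc, hθ, hy],
        fun _ c => (θ c).2⟩
    · obtain ⟨θ, hθ⟩ := hloc (B v) (x v).left
      exact ⟨θ, hθ, fun h => absurd h hv⟩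
  choose θ hθ hint using hall
  choose a ha using fun c => hsurj (fun v => θ v c) (hx.mono fun v hv => hint v hv c)
  have hext : ∀ a₁ a₂ : A, (∀ v, χ v a₁ = χ v a₂) → a₁ = a₂ := fun a₁ a₂ h =>
    sub_eq_zero.1 (hinj _ fun v => by rw [map_sub, h, sub_self])
  let Θ : C ⟶ CommRingCat.of A := CommRingCat.ofHom
    { toFun := a
      map_one' := hext _ _ fun v => by simp [ha]
      map_mul' := fun c d => hext _ _ fun v => by simp [ha]
      map_zero' := hext _ _ fun v => by simp [ha]
      map_add' := fun c d => hext _ _ fun v => by simp [ha] }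
  have hΘ : ∀ v, Spec.map (CommRingCat.ofHom (χ v)) ≫ Spec.map Θ = Spec.map (θ v) := fun v => by
    rw [← Spec.map_comp]
    congr 1
    ext c
    exact ha c v
  refine ⟨Over.homMk (Spec.map Θ ≫ q) (hom_ext_of_jointlyInjective χ hinj fun v => ?_), fun v => ?_⟩
  · rw [← Category.assoc, ← Category.assoc, hΘ, hθ, Over.w]
    show Spec.map _ = Spec.map _ ≫ Spec.map _
    rw [← Spec.map_comp, ← CommRingCat.ofHom_comp, hcomp]
  · refine Over.OverMorphism.ext ?_
    simp only [AdFn.specOfHom, Over.comp_left, Over.homMk_left]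
    rw [← Category.assoc, hΘ, hθ]

include hcomp in
/-- A point over the restricted product is integral at almost all indices. -/
theorem eventually_integral [QuasiCompact G.hom] [LocallyOfFiniteType G.hom]
    (O : ∀ v, Subring (B v)) [∀ v, IsLocalRing (O v)]
    (hint : ∀ a, ∀ᶠ v in Filter.cofinite, χ v a ∈ O v)
    (a : AdFn.specOf φ ⟶ G) :
    ∀ᶠ v in Filter.cofinite, ∀ hv : ∀ r, ψ v r ∈ O v,
      ∃ y : AdFn.specOf ((ψ v).codRestrict (O v) hv) ⟶ G,
        AdFn.specOfHom _ _ (O v).subtype (RingHom.ext fun _ => rfl) ≫ y =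
          AdFn.specOfHom φ (ψ v) (χ v) (hcomp v) ≫ a := by
  classical
  obtain ⟨C, q, hft, hq⟩ := exists_affine_lift G
  obtain ⟨ρ, hρ⟩ : ∃ ρ : CommRingCat.of R ⟶ C, Spec.map ρ = q ≫ G.hom := ⟨_, Spec.map_preimage _⟩
  let : Algebra R C := ρ.hom.toAlgebra
  have hρft : Algebra.FiniteType R C := by
    have := (HasRingHomProperty.Spec_iff (P := @LocallyOfFiniteType) (φ := ρ)).1
      (hρ ▸ hft inferInstance)
    exact this
  obtain ⟨gens, hgens⟩ := hρft.out
  let good : Set A := {f | ∃ θ : C ⟶ CommRingCat.of (Localization.Away f),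
    Spec.map θ ≫ q = Spec.map (CommRingCat.ofHom (algebraMap A (Localization.Away f))) ≫ a.left}
  have hspan : Ideal.span good = ⊤ := by
    by_contra hne
    obtain ⟨m, hm, hle⟩ := Ideal.exists_le_maximal _ hne
    let pt : PrimeSpectrum A := ⟨m, hm.isPrime⟩
    obtain ⟨V, hV, hlift⟩ := hq (a.left pt)
    obtain ⟨_, ⟨f, rfl⟩, hpf, hfV⟩ := PrimeSpectrum.isTopologicalBasis_basic_opens.exists_subset_of_mem_open
      (show pt ∈ {p : PrimeSpectrum A | a.left p ∈ V} from hV) (a.left ⁻¹ᵁ V).2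
    obtain ⟨z, hz⟩ := hlift _ (Spec.map (CommRingCat.ofHom (algebraMap A (Localization.Away f))) ≫ a.left)
      fun w => by
        exact hfV ((PrimeSpectrum.localization_away_comap_range (Localization.Away f) f).le ⟨w, rfl⟩)
    exact hpf (hle (Ideal.subset_span ⟨Spec.preimage z, by rw [Spec.map_preimage, hz]⟩))
  obtain ⟨s, hs, hs1⟩ := (Ideal.span_eq_top_iff_finite _).1 hspan
  rw [Ideal.eq_top_iff_one, Submodule.mem_span_finset] at hs1
  obtain ⟨coef, -, hcoef⟩ := hs1
  choose θ hθ using fun f : s => hs f.2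
  have hnum : ∀ (f : s) (g : C), ∃ b : A, ∃ m : ℕ,
      θ f g * algebraMap A (Localization.Away (f : A)) ((f : A) ^ m) =
        algebraMap A (Localization.Away (f : A)) b := by
    intro f g
    obtain ⟨⟨b, ⟨_, m, rfl⟩⟩, hb⟩ := IsLocalization.surj (Submonoid.powers (f : A)) (θ f g)
    exact ⟨b, m, hb⟩
  choose num ex hnumeq using hnum
  filter_upwards [(Filter.eventually_all_finset s).2 fun f _ => hint f,
    (Filter.eventually_all_finset s).2 fun f _ => hint (coef f),
    Filter.eventually_all.2 fun f : s =>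
      (Filter.eventually_all_finset gens).2 fun g _ => hint (num f g)] with v h1 h2 h3 hv
  obtain ⟨f, hf, hfu⟩ : ∃ f ∈ s, ∃ hf : χ v f ∈ O v, IsUnit (⟨χ v f, hf⟩ : O v) := by
    by_contra hno
    push Not at hno
    have hmem : ∀ f (hf : f ∈ s), (⟨χ v f, h1 f hf⟩ : O v) ∈ IsLocalRing.maximalIdeal (O v) :=
      fun f hf => hno f hf _
    apply (IsLocalRing.maximalIdeal.isMaximal (O v)).ne_top
    rw [Ideal.eq_top_iff_one]
    have : (1 : O v) = ∑ f : s, (⟨χ v (coef f), h2 f f.2⟩ : O v) * ⟨χ v f, h1 f f.2⟩ := by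
      refine Subtype.ext ?_
      rw [AddSubmonoidClass.coe_finsetSum, OneMemClass.coe_one, ← map_one (χ v), ← hcoef, map_sum,
        ← Finset.sum_coe_sort]
      exact Finset.sum_congr rfl fun f _ => by simp
    rw [this]
    exact Ideal.sum_mem _ fun f _ => Ideal.mul_mem_left _ _ (hmem f f.2)
  obtain ⟨hfO, hfu⟩ := hfu
  obtain ⟨u, hu⟩ := hfu.exists_right_inv
  lift f to s using hf
  have hu' : χ v f * u = 1 := congrArg Subtype.val hu
  let ev : Localization.Away (f : A) →+* B v :=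
    IsLocalization.Away.lift (f : A) (g := χ v) (IsUnit.of_mul_eq_one _ hu')
  have hev : ev.comp (algebraMap A (Localization.Away (f : A))) = χ v :=
    IsLocalization.Away.lift_comp (f : A) _
  let T : C →+* B v := ev.comp (θ f).hom
  have hbase : ∀ r, (θ f).hom (ρ.hom r) = algebraMap A (Localization.Away (f : A)) (φ r) := by
    intro r
    have e1 : Spec.map (θ f) ≫ Spec.map ρ =
        Spec.map (CommRingCat.ofHom (algebraMap A (Localization.Away (f : A)))) ≫
          Spec.map (CommRingCat.ofHom φ) := by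
      rw [hρ, ← Category.assoc, hθ f, Category.assoc, Over.w]
      rfl
    rw [← Spec.map_comp, ← Spec.map_comp] at e1
    exact RingHom.congr_fun (congrArg CommRingCat.Hom.hom (Spec.map_injective e1)) r
  have hbase' : ∀ r, T (ρ.hom r) = ψ v r := fun r => by
    show ev _ = _
    rw [hbase, ← RingHom.comp_apply, hev, ← RingHom.comp_apply, hcomp]
  let P : Subalgebra R C :=
    { (O v).comap T with algebraMap_mem' := fun r => show T (ρ.hom r) ∈ O v by rw [hbase']; exact hv r }
  have hP : P = ⊤ := top_le_iff.1 (hgens ▸ Algebra.adjoin_le fun g hg => by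
    have h4 := congrArg ev (hnumeq f g)
    have he : ∀ z : A, ev (algebraMap A _ z) = χ v z := fun z => RingHom.congr_fun hev z
    rw [map_mul, he, he, map_pow] at h4
    show T g ∈ O v
    have h5 : T g = χ v (num f g) * (u : B v) ^ ex f g := by
      rw [← h4, mul_assoc, ← mul_pow, hu', one_pow, mul_one]
      rfl
    rw [h5]
    exact mul_mem (h3 f g hg) (pow_mem u.2 _))
  let T' : C →+* O v := T.codRestrict (O v) fun c => (show c ∈ P by rw [hP]; trivial)
  refine ⟨Over.homMk (Spec.map (CommRingCat.ofHom T') ≫ q) ?_, Over.OverMorphism.ext ?_⟩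
  · show (Spec.map _ ≫ q) ≫ G.hom = Spec.map _
    rw [Category.assoc, ← hρ, ← Spec.map_comp]
    congr 1
    ext r
    exact hbase' r
  · simp only [Over.comp_left, Over.homMk_left, AdFn.specOfHom]
    rw [← Category.assoc, ← Spec.map_comp, show CommRingCat.ofHom T' ≫ CommRingCat.ofHom (O v).subtype =
      θ f ≫ CommRingCat.ofHom ev from rfl, Spec.map_comp, Category.assoc, hθ f,
      ← Category.assoc, ← Spec.map_comp, ← CommRingCat.ofHom_comp, hev]

end Groth.Agent.AdelePts32
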