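import Groth.Agent.AdelePts32.Glue
import Groth.Agent.AdelePts32.GlobalField

/-!
# Integrality of local points of subgroups of Weil restrictions of finite group schemes
-/

set_option autoImplicit false
set_option backward.isDefEq.respectTransparency false

noncomputable section

universe u

open CategoryTheory CategoryTheory.Limits AlgebraicGeometry Opposite TensorProduct

namespace Groth.Agent.AdelePts32

section Lift

variable {R : Type u} [CommRing R] (G : Over (Spec (CommRingCat.of R)))

/-- `exists_affine_lift` with finitely many lifts of field-valued points. -/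
theorem exists_affine_lift_fin [QuasiCompact G.hom] :
    ∃ (C : CommRingCat.{u}) (q : Spec C ⟶ G.left),
      (LocallyOfFiniteType G.hom → LocallyOfFiniteType (q ≫ G.hom)) ∧
      (∀ (L : Type u) [CommRing L] [IsLocalRing L] (y : Spec (CommRingCat.of L) ⟶ G.left),
        ∃ θ : C ⟶ CommRingCat.of L, Spec.map θ ≫ q = y) ∧
      (∀ (L : Type u) [Field L] (y : Spec (CommRingCat.of L) ⟶ G.left),
        Finite {θ : C ⟶ CommRingCat.of L // Spec.map θ ≫ q = y}) := by
  have : CompactSpace G.left := QuasiCompact.compactSpace_of_compactSpace G.hom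
  let 𝒰 := G.left.affineCover.finiteSubcover
  let q0 : (∐ 𝒰.X) ⟶ G.left := Sigma.desc 𝒰.f
  let iso := (∐ 𝒰.X).isoSpec
  refine ⟨Γ(∐ 𝒰.X, ⊤), iso.inv ≫ q0, fun h => ?_, ?_, ?_⟩
  · have : LocallyOfFiniteType q0 :=
      IsZariskiLocalAtSource.sigmaDesc (P := @LocallyOfFiniteType) fun i => inferInstance
    infer_instance
  · intro L _ _ y
    obtain ⟨i, z, hz⟩ := 𝒰.exists_eq (y (IsLocalRing.closedPoint L))
    have htop : y ⁻¹ᵁ (𝒰.f i).opensRange = ⊤ :=
      (IsLocalRing.closed_point_mem_iff (U := y ⁻¹ᵁ (𝒰.f i).opensRange)).1 ⟨z, hz⟩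
    have hr : Set.range y ⊆ Set.range (𝒰.f i) := by
      rintro _ ⟨w, rfl⟩
      have : w ∈ y ⁻¹ᵁ (𝒰.f i).opensRange := by rw [htop]; trivial
      exact this
    exact ⟨Spec.preimage (IsOpenImmersion.lift (𝒰.f i) y hr ≫ Sigma.ι 𝒰.X i ≫ iso.hom),
      by rw [Spec.map_preimage]; simp [q0, iso]⟩
  · intro L _ y
    have hex : ∀ z : {θ : Γ(∐ 𝒰.X, ⊤) ⟶ CommRingCat.of L // Spec.map θ ≫ iso.inv ≫ q0 = y},
        ∃ i, ∃ w : Spec (CommRingCat.of L) ⟶ 𝒰.X i, w ≫ Sigma.ι 𝒰.X i = Spec.map z.1 ≫ iso.inv := by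
      intro z
      obtain ⟨i, x, hx⟩ := (Scheme.IsLocallyDirected.openCover (Discrete.functor 𝒰.X)).exists_eq
        ((Spec.map z.1 ≫ iso.inv) (IsLocalRing.closedPoint L))
      refine ⟨i.as, IsOpenImmersion.lift (Sigma.ι 𝒰.X i.as) (Spec.map z.1 ≫ iso.inv) ?_,
        IsOpenImmersion.lift_fac _ _ _⟩
      rintro _ ⟨w, rfl⟩
      exact ⟨x, hx.trans (congrArg _ (Subsingleton.elim (α := PrimeSpectrum L) _ _))⟩
    choose i w hw using hex
    refine Finite.of_injective i fun z z' h => Subtype.ext (Spec.map_injective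
      ((cancel_mono iso.inv).1 ?_))
    have hf : ∀ z, w z ≫ 𝒰.f (i z) = y := fun z => by
      rw [← Sigma.ι_desc 𝒰.f (i z), ← Category.assoc, hw, Category.assoc]
      exact z.2
    rw [← hw z, ← hw z']
    have key : ∀ (a b : 𝒰.I₀) (wa : Spec (CommRingCat.of L) ⟶ 𝒰.X a)
        (wb : Spec (CommRingCat.of L) ⟶ 𝒰.X b), a = b → wa ≫ 𝒰.f a = wb ≫ 𝒰.f b →
        wa ≫ Sigma.ι 𝒰.X a = wb ≫ Sigma.ι 𝒰.X b := by
      intro a b wa wb hab he
      subst hab
      rw [(cancel_mono (𝒰.f a)).1 he]
    exact key _ _ _ _ h ((hf z).trans (hf z').symm)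

end Lift

/-- A finite algebra has finitely many maps to a reduced Artinian algebra. -/
theorem finite_algHom_of_isReduced {k C T : Type u} [Field k] [CommRing C] [Algebra k C]
    [Module.Finite k C] [CommRing T] [Algebra k T] [IsArtinianRing T] [IsReduced T] :
    Finite (C →ₐ[k] T) := by
  have : ∀ m : MaximalSpectrum T, Finite (C →ₐ[k] T ⧸ m.asIdeal) := fun m => by
    let : Field (T ⧸ m.asIdeal) := Ideal.Quotient.field m.asIdeal
    infer_instance
  refine Finite.of_injective
    (fun (f : C →ₐ[k] T) (m : MaximalSpectrum T) => (Ideal.Quotient.mkₐ k m.asIdeal).comp f)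
    fun f g h => AlgHom.ext fun c => (IsArtinianRing.equivPi T).injective (funext fun m => ?_)
  exact AlgHom.congr_fun (congrFun h m) c

section Points

attribute [local instance] Algebra.TensorProduct.rightAlgebra

/-- Points in a field extension with `k' ⊗ E` reduced are finite. -/
theorem finite_points (P : Precoverage Scheme.{u}) {R K k' E : Type u} [CommRing R] [Field K]
    [Field k'] [Field E] [Algebra K k'] [FiniteDimensional K k'] [Algebra K E]
    [IsReduced (k' ⊗[K] E)]
    [(QuotSh.J P (Spec (CommRingCat.of R))).Subcanonical]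
    [(QuotSh.J P (Spec (CommRingCat.of k'))).Subcanonical] (ρ : R →+* K)
    (𝒢 : Over (Spec (CommRingCat.of R))) [GrpObj 𝒢] [IsCommMonObj 𝒢]
    (B' : Over (Spec (CommRingCat.of k'))) [GrpObj B'] [IsCommMonObj B'] [IsFinite B'.hom]
    (φ : (BigSite.pullBig P (Spec.map (CommRingCat.ofHom ρ)) AddCommGrpCat.{u + 1}).obj
        (CGrpSh.pts P 𝒢) ⟶
      (BigSite.pushBig P (Spec.map (CommRingCat.ofHom (algebraMap K k'))) AddCommGrpCat.{u + 1}).obj
        (CGrpSh.pts P B')) [Mono φ] :
    Finite (AdFn.specOf ((algebraMap K E).comp ρ) ⟶ 𝒢) := by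
  let U : Over (Spec (CommRingCat.of K)) := AdFn.specOf (algebraMap K E)
  let f := Spec.map (CommRingCat.ofHom (algebraMap K k'))
  let iso : (Over.map (Spec.map (CommRingCat.ofHom ρ))).obj U ≅ AdFn.specOf ((algebraMap K E).comp ρ) :=
    Over.isoMk (Iso.refl _) (by simp [U])
  let X := (Over.pullback f).obj U
  have : Mono φ.hom := inferInstanceAs (Mono ((sheafToPresheaf _ _).map φ))
  have hφ : Function.Injective (φ.hom.app (op U)) :=
    (AddCommGrpCat.mono_iff_injective _).1 inferInstance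
  suffices Finite (X ⟶ B') from
    Finite.of_injective (β := X ⟶ B')
      (fun x => Additive.toMul (φ.hom.app (op U) (ULift.up (Additive.ofMul (iso.hom ≫ x)))).down)
      fun x x' h => (cancel_epi iso.hom).1
        (Additive.ofMul.injective (congrArg ULift.down (hφ (ULift.ext _ _ (Additive.toMul.injective h)))))
  have : IsAffine B'.left := isAffine_of_isAffineHom B'.hom
  obtain ⟨C, ⟨eB⟩⟩ : ∃ C : CommRingCat.{u}, Nonempty (B'.left ≅ Spec C) := ⟨_, ⟨B'.left.isoSpec⟩⟩
  obtain ⟨β, hβ⟩ : ∃ β : CommRingCat.of k' ⟶ C, Spec.map β = eB.inv ≫ B'.hom :=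
    ⟨_, Spec.map_preimage _⟩
  let : Algebra k' C := β.hom.toAlgebra
  have : Module.Finite k' C := (IsFinite.SpecMap_iff β).1 (hβ ▸ inferInstance)
  let T := E ⊗[K] k'
  have : IsReduced T :=
    isReduced_of_injective (Algebra.TensorProduct.comm K E k') (AlgEquiv.injective _)
  have : IsArtinianRing T := IsArtinianRing.of_finite E T
  have := finite_algHom_of_isReduced (k := k') (C := C) (T := T)
  let d : Spec (CommRingCat.of T) ≅ X.left := (pullbackSpecIso K E k').symm
  have hd : d.hom ≫ X.hom = Spec.map (CommRingCat.ofHom (algebraMap k' T)) :=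
    pullbackSpecIso_inv_snd K E k'
  refine Finite.of_injective (β := C →ₐ[k'] T) (fun y =>
    { (Spec.preimage (d.hom ≫ y.left ≫ eB.hom)).hom with commutes' := fun r => ?_ })
    fun y y' h => Over.OverMorphism.ext ((cancel_epi d.hom).1 ((cancel_mono eB.hom).1 ?_))
  · have h1 : Spec.map (Spec.preimage (d.hom ≫ y.left ≫ eB.hom)) ≫ Spec.map β =
        Spec.map (CommRingCat.ofHom (algebraMap k' T)) := by
      rw [Spec.map_preimage, hβ, ← hd, ← Over.w y]
      simp
    rw [← Spec.map_comp] at h1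
    exact RingHom.congr_fun (congrArg CommRingCat.Hom.hom (Spec.map_injective h1)) r
  · simp only [Category.assoc]
    rw [← Spec.map_preimage (d.hom ≫ y.left ≫ eB.hom), ← Spec.map_preimage (d.hom ≫ y'.left ≫ eB.hom)]
    congr 1
    exact CommRingCat.hom_ext (RingHom.ext fun c => AlgHom.congr_fun h c)

end Points

section Main

variable {p : ℕ} [hp : Fact p.Prime]

/-- Local points are integral at almost all places. -/
theorem eventually_points_integral {R K : Type u} [CommRing R] [Field K] [Infinite K] [CharP K p]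
    (ρ : R →+* K) (G : Over (Spec (CommRingCat.of R))) [QuasiCompact G.hom] [LocallyOfFiniteType G.hom]
    (hspan : ∀ π : K, (∀ y : K, y ^ p ≠ π) → PSpans p π)
    (hfin : ∀ (E : Type u) [Field E] [Algebra K E] [CharP E p] (π : K),
      (∀ y : E, y ^ p ≠ algebraMap K E π) → Finite (AdFn.specOf ((algebraMap K E).comp ρ) ⟶ G))
    {ι : Type u} (B : ι → Type u) [∀ v, Field (B v)] [∀ v, Algebra K (B v)]
    (ψ : ∀ v, R →+* B v) (hψ : ∀ v r, ψ v r = algebraMap K (B v) (ρ r))
    (hπ : ∀ v, ∃ π : K, ∀ y : B v, y ^ p ≠ algebraMap K (B v) π)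
    (O : ∀ v, ValuationSubring (B v))
    (hpoles : ∀ a : K, ∀ᶠ v in Filter.cofinite, algebraMap K (B v) a ∈ O v) :
    ∀ᶠ v in Filter.cofinite, ∀ (hv : ∀ r, ψ v r ∈ O v) (x : AdFn.specOf (ψ v) ⟶ G),
      ∃ y : AdFn.specOf ((ψ v).codRestrict (O v).toSubring hv) ⟶ G,
        AdFn.specOfHom _ _ (O v).toSubring.subtype (RingHom.ext fun _ => rfl) ≫ y = x := by
  classical
  cases isEmpty_or_nonempty ι with
  | inl h => exact Filter.Eventually.of_forall fun v => (IsEmpty.false v).elim
  | inr h =>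
  obtain ⟨v₀⟩ := h
  obtain ⟨π₀, hπ₀⟩ := hπ v₀
  have hπK : ∀ y : K, y ^ p ≠ π₀ := fun y hy =>
    hπ₀ (algebraMap K (B v₀) y) (by rw [← map_pow, hy])
  let Ks := SeparableClosure K
  have : CharP Ks p := charP_of_injective_ringHom (algebraMap K Ks).injective p
  obtain ⟨C, q, hft, hlift, hfib⟩ := exists_affine_lift_fin G
  obtain ⟨β, hβ⟩ : ∃ β : CommRingCat.of R ⟶ C, Spec.map β = q ≫ G.hom := ⟨_, Spec.map_preimage _⟩
  let : Algebra R C := β.hom.toAlgebra
  have hρft : Algebra.FiniteType R C :=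
    (HasRingHomProperty.Spec_iff (P := @LocallyOfFiniteType) (φ := β)).1 (hβ ▸ hft inferInstance)
  obtain ⟨gens, hgens⟩ := hρft.out
  let LC (E : Type u) [Field E] [Algebra K E] : Type u :=
    {θ : C →+* E // ∀ r, θ (β.hom r) = algebraMap K E (ρ r)}
  have hLC : ∀ (E : Type u) [Field E] [Algebra K E] [CharP E p] (π : K),
      (∀ y : E, y ^ p ≠ algebraMap K E π) → Finite (LC E) := by
    intro E _ _ _ π hE
    have := hfin E π hE
    let pt : LC E → (AdFn.specOf ((algebraMap K E).comp ρ) ⟶ G) := fun θ =>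
      Over.homMk (Spec.map (CommRingCat.ofHom θ.1) ≫ q) (by
        show (_ ≫ q) ≫ G.hom = Spec.map _
        rw [Category.assoc, ← hβ, ← Spec.map_comp]
        congr 1
        ext r
        exact θ.2 r)
    have := fun P : AdFn.specOf ((algebraMap K E).comp ρ) ⟶ G => hfib E P.left
    refine Finite.of_injective (β := Σ P : AdFn.specOf ((algebraMap K E).comp ρ) ⟶ G,
      {θ : C ⟶ CommRingCat.of E // Spec.map θ ≫ q = P.left})
      (fun θ => ⟨pt θ, CommRingCat.ofHom θ.1, rfl⟩) fun θ θ' h => Subtype.ext ?_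
    exact congrArg (fun z => z.2.1.hom) h
  have : Finite (LC Ks) := hLC Ks π₀ fun y => not_pow_of_isSeparable hπK y
  filter_upwards [Filter.eventually_all.2 fun θ : LC Ks =>
    (Filter.eventually_all_finset gens).2 fun g _ =>
      (Filter.eventually_all_finset (Finset.range ((minpoly K (θ.1 g)).natDegree + 1))).2 fun i _ =>
        hpoles ((minpoly K (θ.1 g)).coeff i)] with v hgood hv x
  obtain ⟨π, hπv⟩ := hπ v
  have hπK' : ∀ y : K, y ^ p ≠ π := fun y hy => hπv (algebraMap K (B v) y) (by rw [← map_pow, hy])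
  obtain ⟨θx, hθx⟩ := hlift (B v) x.left
  have hθbase : ∀ r, θx (β.hom r) = algebraMap K (B v) (ρ r) := by
    intro r
    have e1 : Spec.map θx ≫ Spec.map β = Spec.map (CommRingCat.ofHom (ψ v)) := by
      rw [hβ, ← Category.assoc, hθx, Over.w]
      rfl
    rw [← Spec.map_comp] at e1
    exact (RingHom.congr_fun (congrArg CommRingCat.Hom.hom (Spec.map_injective e1)) r).trans (hψ v r)
  let F := IntermediateField.adjoin K ((gens.image fun g => θx g : Finset (B v)) : Set (B v))
  have hmem : ∀ c, θx c ∈ F := by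
    let P : Subalgebra R C :=
      { F.toSubalgebra.toSubsemiring.comap θx.hom with
        algebraMap_mem' := fun r => show θx (β.hom r) ∈ F by
          rw [hθbase]; exact F.algebraMap_mem _ }
    have : P = ⊤ := top_le_iff.1 (hgens ▸ Algebra.adjoin_le fun g hg =>
      show θx g ∈ F from IntermediateField.subset_adjoin K _ (Finset.mem_coe.2 (Finset.mem_image_of_mem _ hg)))
    exact fun c => show c ∈ P by rw [this]; trivial
  have : Algebra.EssFiniteType K F :=
    IntermediateField.essFiniteType_iff.2 (IntermediateField.fg_adjoin_finset _)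
  have : CharP F p := charP_of_injective_ringHom (algebraMap K F).injective p
  have hF : ∀ y : F, y ^ p ≠ algebraMap K F π := fun y hy =>
    hπv y (congrArg (algebraMap F (B v)) hy)
  let θF : C →+* F := θx.hom.codRestrict F hmem
  have hθF : ∀ r, θF (β.hom r) = algebraMap K F (ρ r) := fun r => Subtype.ext (hθbase r)
  have hext : ∀ {Ω : Type u} [Field Ω] [Algebra K Ω] (σ σ' : F →ₐ[K] Ω),
      (∀ g ∈ gens, σ (θF g) = σ' (θF g)) → σ = σ' := by
    intro Ω _ _ σ σ' h
    refine AlgHom.ext fun ⟨y, hy⟩ => ?_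
    induction hy using IntermediateField.adjoin_induction with
    | mem y hy =>
      obtain ⟨g, hg, rfl⟩ := Finset.mem_image.1 (Finset.mem_coe.1 hy)
      exact h g hg
    | algebraMap a => exact (σ.commutes a).trans (σ'.commutes a).symm
    | add a b ha hb h1 h2 =>
      exact (map_add σ ⟨a, ha⟩ ⟨b, hb⟩).trans ((congrArg₂ (· + ·) h1 h2).trans (map_add σ' ⟨a, ha⟩ ⟨b, hb⟩).symm)
    | inv a ha h1 =>
      exact (map_inv₀ σ ⟨a, ha⟩).trans ((congrArg Inv.inv h1).trans (map_inv₀ σ' ⟨a, ha⟩).symm)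
    | mul a b ha hb h1 h2 =>
      exact (map_mul σ ⟨a, ha⟩ ⟨b, hb⟩).trans ((congrArg₂ (· * ·) h1 h2).trans (map_mul σ' ⟨a, ha⟩ ⟨b, hb⟩).symm)
  have : Algebra.IsSeparable K F := by
    obtain ⟨s, hs, hsep⟩ := exists_sep_basis π (hspan π hπK') F hF
    rcases s.eq_empty_or_nonempty with rfl | ⟨t, ht⟩
    · rw [Finset.coe_empty, IntermediateField.adjoin_empty] at hsep
      exact Algebra.IsSeparable.trans K (⊥ : IntermediateField K F) F
    · exfalso
      let Ω := SeparableClosure F
      have : CharP Ω p := charP_of_injective_ringHom (algebraMap F Ω).injective p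
      have hΩ : ∀ y : Ω, y ^ p ≠ algebraMap K Ω π := fun y => by
        rw [IsScalarTower.algebraMap_apply K F Ω]; exact not_pow_of_isSeparable hF y
      have := hLC Ω π hΩ
      choose σ hσ using fun δ : K => exists_translate (Ω := Ω) hs ht δ
      obtain ⟨δ, δ', hne, heq⟩ := Finite.exists_ne_map_eq_of_infinite fun δ : K =>
        (⟨(σ δ).toRingHom.comp θF, fun r => by
          show σ δ (θF (β.hom r)) = _
          rw [hθF, AlgHom.commutes]⟩ : LC Ω)
      have hσeq : σ δ = σ δ' := hext _ _ fun g _ =>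
        RingHom.congr_fun (congrArg Subtype.val heq) g
      have := (hσ δ).symm.trans ((AlgHom.congr_fun hσeq t).trans (hσ δ'))
      exact hne ((algebraMap K Ω).injective (add_left_cancel this))
  let emb : F →ₐ[K] Ks := IsSepClosed.lift
  let θs : LC Ks := ⟨emb.toRingHom.comp θF, fun r => by
    show emb (θF (β.hom r)) = _
    rw [hθF, AlgHom.commutes]⟩
  have hint : ∀ g ∈ gens, θx g ∈ O v := by
    intro g hg
    let m := minpoly K (θs.1 g)
    have hm : m.Monic := minpoly.monic (Algebra.IsIntegral.isIntegral (R := K) _)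
    have hroot : Polynomial.aeval (θx g : B v) m = 0 := by
      have h1 : Polynomial.aeval (θF g) m = 0 := by
        refine emb.injective (((Polynomial.aeval_algHom_apply emb (θF g) m).symm).trans ?_)
        rw [map_zero]
        exact minpoly.aeval K (θs.1 g)
      have := congrArg (algebraMap F (B v)) h1
      rwa [map_zero, ← Polynomial.aeval_algebraMap_apply] at this
    have hlift : m.map (algebraMap K (B v)) ∈ Polynomial.lifts (O v).subtype := by
      rw [Polynomial.lifts_iff_coeff_lifts]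
      intro i
      rw [Polynomial.coeff_map]
      by_cases hi : i ∈ Finset.range (m.natDegree + 1)
      · exact ⟨⟨_, hgood θs g hg i hi⟩, rfl⟩
      · rw [Polynomial.coeff_eq_zero_of_natDegree_lt (by simpa using hi), map_zero]
        exact ⟨0, map_zero _⟩
    obtain ⟨Q, hQ, -, hQm⟩ := Polynomial.lifts_and_degree_eq_and_monic hlift (hm.map _)
    have hI : IsIntegral (O v) (θx g : B v) := by
      refine ⟨Q, hQm, ?_⟩
      rw [show algebraMap (O v) (B v) = (O v).subtype from rfl, ← Polynomial.eval_map, hQ,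
        Polynomial.eval_map, ← Polynomial.aeval_def, hroot]
    obtain ⟨z, hz⟩ := (IsIntegrallyClosed.isIntegral_iff (R := O v)).1 hI
    exact hz ▸ z.2
  have hall : ∀ c, θx c ∈ O v := by
    let P : Subalgebra R C :=
      { (O v).toSubring.toSubsemiring.comap θx.hom with
        algebraMap_mem' := fun r => show θx (β.hom r) ∈ O v by rw [hθbase, ← hψ]; exact hv r }
    have : P = ⊤ := top_le_iff.1 (hgens ▸ Algebra.adjoin_le hint)
    exact fun c => show c ∈ P by rw [this]; trivial
  refine ⟨Over.homMk (Spec.map (CommRingCat.ofHom (θx.hom.codRestrict (O v).toSubring hall)) ≫ q) ?_,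
    Over.OverMorphism.ext ?_⟩
  · show (_ ≫ q) ≫ G.hom = Spec.map _
    rw [Category.assoc, ← hβ, ← Spec.map_comp]
    congr 1
    ext r
    exact (hθbase r).trans (hψ v r).symm
  · simp only [Over.comp_left, Over.homMk_left, AdFn.specOfHom]
    rw [← Category.assoc, ← Spec.map_comp]
    exact (congrArg (fun t => Spec.map t ≫ q) (CommRingCat.hom_ext (RingHom.ext fun _ => rfl))).trans hθx

end Main

end Groth.Agent.AdelePts32
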