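import Groth.Agent.S9634
import Mathlib.FieldTheory.PurelyInseparable.Exponent
import Mathlib.FieldTheory.SeparablyGenerated
import Mathlib.RingTheory.Nilpotent.GeometricallyReduced

/-!
# Fields of imperfection degree one

`K` is a field of characteristic `p` with `K = ⊕_{j < p} K^p π^j`.  An extension `E` in which `π` is
still not a `p`-th power is separable over `K`.
-/

set_option autoImplicit false

noncomputable section

namespace Groth.Agent.AdelePts32

open TensorProduct

universe u

variable {p : ℕ} [hp : Fact p.Prime]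

omit hp in
/-- Powers of a non-`p`-th power are independent over `p`-th powers. -/
theorem pIndep {E : Type*} [Field E] [CharP E p] [Fact p.Prime] {π : E} (hπ : ∀ y : E, y ^ p ≠ π)
    (y : Fin p → E) (h : ∑ j, y j ^ p * π ^ (j : ℕ) = 0) : y = 0 := by
  let f : Polynomial E := Polynomial.X ^ p - Polynomial.C π
  have hirr : Irreducible f := X_pow_sub_C_irreducible_of_prime Fact.out hπ
  have : Fact (Irreducible f) := ⟨hirr⟩
  have : CharP (AdjoinRoot f) p := charP_of_injective_ringHom (AdjoinRoot.of f).injective p
  let r := AdjoinRoot.root f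
  have hr : r ^ p = AdjoinRoot.of f π := by
    have := AdjoinRoot.eval₂_root f
    simpa [f, sub_eq_zero] using this
  let Q : Polynomial E := ∑ j : Fin p, Polynomial.C (y j) * Polynomial.X ^ (j : ℕ)
  have hQ : AdjoinRoot.mk f Q = 0 := by
    refine pow_eq_zero_iff (Fact.out : p.Prime).ne_zero |>.1 ?_
    rw [map_sum, sum_pow_char, ← map_zero (AdjoinRoot.of f), ← h, map_sum]
    refine Finset.sum_congr rfl fun j _ => ?_
    simp only [map_mul, map_pow, AdjoinRoot.mk_C, AdjoinRoot.mk_X, mul_pow, ← pow_mul, r] at hr ⊢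
    rw [mul_comm (j : ℕ), pow_mul, hr]
  have hdeg : Q = 0 := by
    by_contra hne
    have h1 := Polynomial.degree_le_of_dvd (AdjoinRoot.mk_eq_zero.1 hQ) hne
    rw [Polynomial.degree_X_pow_sub_C (Fact.out : p.Prime).pos] at h1
    exact absurd (h1.trans_lt (Polynomial.degree_sum_fin_lt y)) (lt_irrefl _)
  funext j
  have := congrArg (fun P => P.coeff (j : ℕ)) hdeg
  simpa [Q, Polynomial.finsetSum_coeff, Polynomial.coeff_C_mul_X_pow, Fin.val_inj] using this

variable {K : Type u} [Field K] [CharP K p] (π : K)

/-- `K` is spanned over `K^p` by the powers of `π`. -/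
def PSpans (p : ℕ) {K : Type*} [Field K] (π : K) : Prop :=
  ∀ a : K, ∃ c : Fin p → K, a = ∑ j, c j ^ p * π ^ (j : ℕ)

/-- Iterated `p`-power expansions. -/
theorem exists_expansion (hspan : PSpans p π) (n : ℕ) :
    ∃ (I : Type) (_ : Fintype I) (e : I → ℕ),
      (∀ a : K, ∃ c : I → K, a = ∑ i, c i ^ p ^ n * π ^ e i) ∧
      ∀ (E : Type u) [Field E] [Algebra K E] [CharP E p], (∀ y : E, y ^ p ≠ algebraMap K E π) →
        ∀ y : I → E, ∑ i, y i ^ p ^ n * algebraMap K E π ^ e i = 0 → y = 0 := by
  induction n with
  | zero =>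
    refine ⟨Unit, inferInstance, fun _ => 0, fun a => ⟨fun _ => a, by simp⟩,
      fun E _ _ _ _ y h => funext fun i => ?_⟩
    simpa using h
  | succ n ih =>
    obtain ⟨I, _, e, h1, h2⟩ := ih
    refine ⟨Fin p × I, inferInstance, fun x => x.1 + p * e x.2, fun a => ?_, ?_⟩
    · obtain ⟨c, hc⟩ := hspan a
      choose d hd using fun j => h1 (c j)
      refine ⟨fun x => d x.1 x.2, ?_⟩
      rw [hc, Fintype.sum_prod_type]
      refine Finset.sum_congr rfl fun j _ => ?_
      conv_lhs => rw [hd j, sum_pow_char, Finset.sum_mul]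
      refine Finset.sum_congr rfl fun i _ => ?_
      rw [mul_pow, pow_succ, ← pow_mul, ← pow_mul, pow_add, mul_comm (e i) p, pow_mul]
      ring
    · intro E _ _ _ hE y h
      let π' := algebraMap K E π
      have h3 : (fun j => ∑ i, y (j, i) ^ p ^ n * π' ^ e i) = 0 := by
        refine pIndep hE _ (Eq.trans ?_ h)
        rw [Fintype.sum_prod_type]
        refine Finset.sum_congr rfl fun j _ => ?_
        rw [sum_pow_char, Finset.sum_mul]
        refine Finset.sum_congr rfl fun i _ => ?_
        rw [mul_pow, pow_succ, ← pow_mul, ← pow_mul, pow_add, mul_comm (e i) p, pow_mul]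
        ring
      funext x
      exact congrFun (h2 E hE (fun i => y (x.1, i)) (congrFun h3 x.1)) x.2

/-- An extension in which `π` is not a `p`-th power is geometrically reduced. -/
theorem isReduced_tensor (hspan : PSpans p π) (E : Type u) [Field E] [Algebra K E] [CharP E p]
    (hE : ∀ y : E, y ^ p ≠ algebraMap K E π) (L : Type u) [Field L] [Algebra K L] :
    IsReduced (L ⊗[K] E) := by
  revert L
  refine ((S9634.result (k := K) (S := E)).out 0 2).1 ?_
  intro k' _ _ _ _
  have hKp : ExpChar K p := ExpChar.prime hp.out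
  obtain ⟨n, hn⟩ : ∃ n, ∀ x : k', x ^ p ^ n ∈ (algebraMap K k').range :=
    ⟨_, fun x => IsPurelyInseparable.exponent_def' K p x⟩
  obtain ⟨I, _, e, h1, h2⟩ := exists_expansion π hspan n
  let Ω := AlgebraicClosure E
  have : CharP Ω p := charP_of_injective_ringHom (algebraMap E Ω).injective p
  have : CharP k' p := charP_of_injective_ringHom (algebraMap K k').injective p
  let τ : k' →ₐ[K] Ω := IsAlgClosed.lift
  obtain ⟨r, hr⟩ := IsAlgClosed.exists_pow_nat_eq (algebraMap K Ω π)
    (pow_pos hp.out.pos n : 0 < p ^ n)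
  let b := Module.finBasis K k'
  choose a ha using fun j => hn (b j)
  choose c hc using fun j => h1 (a j)
  have hτ : ∀ j, τ (b j) = ∑ i, algebraMap K Ω (c j i) * r ^ e i := by
    intro j
    refine iterateFrobenius_inj Ω p n ?_
    simp only [iterateFrobenius_def]
    rw [sum_pow_char_pow, ← map_pow, ← ha j, AlgHom.commutes, hc j, map_sum]
    refine Finset.sum_congr rfl fun i _ => ?_
    rw [map_mul, map_pow, map_pow, mul_pow, ← pow_mul r, mul_comm (e i), pow_mul, hr]
  let θ : k' ⊗[K] E →ₐ[K] Ω :=
    Algebra.TensorProduct.productMap τ (IsScalarTower.toAlgHom K E Ω)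
  refine isReduced_of_injective θ ((injective_iff_map_eq_zero _).2 fun z hz => ?_)
  obtain ⟨w, rfl⟩ : ∃ w : Fin (Module.finrank K k') → E, ∑ j, b j ⊗ₜ[K] w j = z := by
    clear hz
    induction z with
    | zero => exact ⟨0, by simp⟩
    | add x y hx hy =>
      obtain ⟨u, rfl⟩ := hx
      obtain ⟨v, rfl⟩ := hy
      exact ⟨u + v, by simp [TensorProduct.tmul_add, Finset.sum_add_distrib]⟩
    | tmul x y =>
      refine ⟨fun j => b.repr x j • y, ?_⟩
      simp only [TensorProduct.tmul_smul, TensorProduct.smul_tmul', ← TensorProduct.sum_tmul,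
        b.sum_repr]
  have hrel : ∀ i, ∑ j, algebraMap K E (c j i) * w j = 0 := by
    refine fun i => congrFun (h2 E hE (fun i => ∑ j, algebraMap K E (c j i) * w j) ?_) i
    refine (algebraMap E Ω).injective ?_
    rw [map_zero, ← zero_pow (pow_pos hp.out.pos n).ne', ← hz]
    simp only [θ, map_sum, Algebra.TensorProduct.productMap_apply_tmul,
      IsScalarTower.coe_toAlgHom', hτ, Finset.sum_mul, map_mul, map_pow,
      ← IsScalarTower.algebraMap_apply K E Ω]
    rw [Finset.sum_comm, sum_pow_char_pow]
    refine Finset.sum_congr rfl fun i _ => ?_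
    rw [← hr, ← pow_mul, mul_comm (p ^ n), pow_mul, ← mul_pow, Finset.sum_mul]
    congr 1
    exact Finset.sum_congr rfl fun j _ => by ring
  let M : (Fin (Module.finrank K k') → K) →ₗ[K] (I → K) := Fintype.linearCombination K c
  obtain ⟨g, hg⟩ := LinearMap.exists_leftInverse_of_injective M
    (LinearMap.ker_eq_bot'.2 fun d hd => by
      have hd' : (∑ j, d j • b j) ^ p ^ n = 0 := by
        rw [sum_pow_char_pow, ← map_zero (algebraMap K k')]
        simp only [Algebra.smul_def, mul_pow, ← ha, ← map_pow, ← map_mul, ← map_sum]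
        congr 1
        simp only [hc, Finset.mul_sum]
        rw [Finset.sum_comm]
        refine Finset.sum_eq_zero fun i _ => ?_
        have := congrFun hd i
        simp only [M, Fintype.linearCombination_apply, Finset.sum_apply, Pi.smul_apply, smul_eq_mul,
          Pi.zero_apply] at this
        simp only [← mul_assoc, ← mul_pow, ← Finset.sum_mul, ← sum_pow_char_pow, this,
          zero_pow (pow_pos hp.out.pos n).ne', zero_mul]
      exact funext (Fintype.linearIndependent_iff.1 b.linearIndependent d (pow_eq_zero_iff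
        (pow_pos hp.out.pos n).ne' |>.1 hd')))
  classical
  have hN : ∀ j k, ∑ i, c j i * g (Pi.single i 1) k = if j = k then 1 else 0 := by
    intro j k
    have := congrFun (LinearMap.congr_fun hg (Pi.single j 1)) k
    simp only [LinearMap.comp_apply, LinearMap.id_apply, M, Fintype.linearCombination_apply_single,
      one_smul, Pi.single_apply] at this
    simp only [eq_comm (a := k) (b := j)] at this
    rw [← this]
    conv_rhs => rw [pi_eq_sum_univ' (c j), map_sum, Finset.sum_apply]
    simp
  refine Finset.sum_eq_zero fun k _ => ?_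
  have : w k = 0 := by
    calc w k = ∑ j, algebraMap K E (if j = k then 1 else 0) * w j := by
          simp [apply_ite (algebraMap K E)]
      _ = ∑ i, algebraMap K E (g (Pi.single i 1) k) * ∑ j, algebraMap K E (c j i) * w j := by
          simp only [← hN, map_sum, Finset.sum_mul, Finset.mul_sum, map_mul]
          rw [Finset.sum_comm]
          exact Finset.sum_congr rfl fun i _ => Finset.sum_congr rfl fun j _ => by ring
      _ = 0 := by simp [hrel]
  rw [this, TensorProduct.tmul_zero]

omit [CharP K p] in
/-- If `π` is not a `p`-th power in `E`, it is not one in a separable algebraic extension. -/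
theorem not_pow_of_isSeparable {E Ω : Type*} [Field E] [Field Ω] [Algebra E Ω] [CharP E p]
    [Algebra.IsSeparable E Ω] {x : E} (hx : ∀ y : E, y ^ p ≠ x) (y : Ω) :
    y ^ p ≠ algebraMap E Ω x := by
  intro hy
  have : ExpChar E p := ExpChar.prime hp.out
  have hsep := Algebra.IsSeparable.isSeparable E y
  obtain ⟨z, rfl⟩ : y ∈ (algebraMap E Ω).range := by
    have h1 : y ∈ perfectClosure E Ω :=
      (mem_perfectClosure_iff_pow_mem p).2 ⟨1, x, by rw [pow_one, hy]⟩
    have h2 : y ∈ separableClosure E Ω := (mem_separableClosure_iff).2 hsep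
    have h3 : y ∈ separableClosure E Ω ⊓ perfectClosure E Ω := ⟨h2, h1⟩
    rw [separableClosure_inf_perfectClosure] at h3
    exact h3
  exact hx z ((algebraMap E Ω).injective (by rw [map_pow, hy]))

/-- Separable generation. -/
theorem exists_sep_basis (hspan : PSpans p π) (F : Type u) [Field F] [Algebra K F]
    [Algebra.EssFiniteType K F] [CharP F p] (hF : ∀ y : F, y ^ p ≠ algebraMap K F π) :
    ∃ s : Finset F, IsTranscendenceBasis K ((↑) : s → F) ∧
      Algebra.IsSeparable (IntermediateField.adjoin K (s : Set F)) F := by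
  have : ExpChar K p := ExpChar.prime hp.out
  refine exists_isTranscendenceBasis_and_isSeparable_of_linearIndepOn_pow_of_essFiniteType
    p hp.out fun s hs => ?_
  rw [linearIndepOn_finset_iff] at hs ⊢
  intro c hc
  choose d hd using fun i => hspan (c i)
  have h0 : (fun j => ∑ i ∈ s, algebraMap K F (d i j) * i) = 0 := by
    refine pIndep hF _ (Eq.trans ?_ hc)
    simp only [sum_pow_char, Finset.sum_mul]
    rw [Finset.sum_comm]
    refine Finset.sum_congr rfl fun i _ => ?_
    conv_rhs => rw [hd i, Algebra.smul_def, map_sum, Finset.sum_mul]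
    refine Finset.sum_congr rfl fun j _ => ?_
    simp only [map_mul, map_pow, mul_pow]
    ring
  intro i hi
  have hz : ∀ j, d i j = 0 := fun j => hs (fun i => d i j) (by
    simpa [Algebra.smul_def] using congrFun h0 j) i hi
  rw [hd i]
  simp [hz, zero_pow hp.out.ne_zero]

end Groth.Agent.AdelePts32
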