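import Groth.Prelude.Def_CGrpSh2
import Groth.Prelude.Def_AdFn

/-!
# Jointly injective ring maps separate morphisms into separated schemes
-/

set_option autoImplicit false
set_option backward.isDefEq.respectTransparency false

noncomputable section

universe u

open CategoryTheory CategoryTheory.Limits AlgebraicGeometry Opposite TensorProduct

namespace Groth.Agent.AdelePts32

/-- Morphisms from an affine scheme into a separated scheme are separated by a jointly injective
family of ring maps. -/
theorem hom_ext_of_jointlyInjective {A : Type u} [CommRing A] {ι : Type*} {B : ι → Type u}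
    [∀ v, CommRing (B v)] (χ : ∀ v, A →+* B v) (hχ : ∀ a, (∀ v, χ v a = 0) → a = 0)
    {X : Scheme.{u}} [X.IsSeparated] {f g : Spec (CommRingCat.of A) ⟶ X}
    (h : ∀ v, Spec.map (CommRingCat.ofHom (χ v)) ≫ f = Spec.map (CommRingCat.ofHom (χ v)) ≫ g) :
    f = g := by
  let e := equalizer.ι f g
  have : IsClosedImmersion e := inferInstance
  have : IsAffine (equalizer f g) := isAffine_of_isAffineHom e
  have hbij : Function.Bijective e.appTop := by
    refine ⟨(injective_iff_map_eq_zero _).2 fun z hz => ?_,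
      (IsClosedImmersion.isAffine_surjective_of_isAffine e).2⟩
    · have h0 : ∀ v, (Spec.map (CommRingCat.ofHom (χ v))).appTop z = 0 := fun v => by
        rw [← equalizer.lift_ι _ (h v), Scheme.Hom.comp_appTop, CommRingCat.comp_apply]
        rw [hz, map_zero]
      obtain ⟨a, rfl⟩ : ∃ a, (Scheme.ΓSpecIso (CommRingCat.of A)).inv a = z :=
        ⟨_, Iso.hom_inv_id_apply (Scheme.ΓSpecIso (CommRingCat.of A)) z⟩
      rw [hχ a fun v => ?_, map_zero]
      apply (ConcreteCategory.bijective_of_isIso (Scheme.ΓSpecIso (CommRingCat.of (B v))).inv).1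
      rw [map_zero, ← h0 v, ← CommRingCat.comp_apply, ← Scheme.ΓSpecIso_inv_naturality]
      rfl
  have : IsIso e.appTop := (ConcreteCategory.isIso_iff_bijective _).2 hbij
  have : IsIso e :=
    (HasAffineProperty.iff_of_isAffine (P := MorphismProperty.isomorphisms Scheme)).2 ⟨inferInstance, this⟩
  exact (cancel_epi e).1 (equalizer.condition f g)

/-- Base change of a jointly injective family of algebras over a field stays jointly injective. -/
theorem tensor_jointlyInjective {R K A : Type u} [CommRing R] [Field K] [CommRing A] [Algebra R K]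
    [Algebra R A] [Algebra K A] [IsScalarTower R K A] {ι : Type*} {B : ι → Type u}
    [∀ v, CommRing (B v)] [∀ v, Algebra R (B v)] (χ : ∀ v, A →ₐ[R] B v)
    (hχ : ∀ a, (∀ v, χ v a = 0) → a = 0) {M : Type u} [AddCommGroup M] [Module R M]
    (z : M ⊗[R] A) (hz : ∀ v, (χ v).toLinearMap.lTensor M z = 0) : z = 0 := by
  classical
  let V := K ⊗[R] M
  let b := Module.Free.chooseBasis K V
  let E : M ⊗[R] A ≃ₗ[R] A ⊗[K] V := (TensorProduct.comm R M A).trans
    ((TensorProduct.AlgebraTensorModule.cancelBaseChange R K A A M).symm.restrictScalars R)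
  have hE : ∀ m a, E (m ⊗ₜ[R] a) = a ⊗ₜ[K] ((1 : K) ⊗ₜ[R] m) := fun m a => by
    simp [E, V]
  let c := fun i (w : A ⊗[K] V) => (b.baseChange A).repr w i
  suffices ∀ i, c i (E z) = 0 by
    refine E.injective ((b.baseChange A).repr.injective (Finsupp.ext fun i => ?_))
    rw [map_zero, map_zero]
    exact this i
  intro i
  refine hχ _ fun v => ?_
  let : Algebra K (B v) := ((χ v).toRingHom.comp (algebraMap K A)).toAlgebra
  have : IsScalarTower R K (B v) := IsScalarTower.of_algebraMap_eq fun r =>
    ((congrArg (χ v) (IsScalarTower.algebraMap_apply R K A r)).symm.trans ((χ v).commutes r)).symm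
  let Ev : M ⊗[R] B v ≃ₗ[R] B v ⊗[K] V := (TensorProduct.comm R M (B v)).trans
    ((TensorProduct.AlgebraTensorModule.cancelBaseChange R K (B v) (B v) M).symm.restrictScalars R)
  have key : ∀ w, χ v (c i (E w)) = (b.baseChange (B v)).repr (Ev ((χ v).toLinearMap.lTensor M w)) i := by
    intro w
    induction w with
    | zero => simp [c]
    | add x y hx hy =>
      simp only [c, map_add, Finsupp.add_apply] at hx hy ⊢
      rw [hx, hy]
    | tmul m a =>
      simp only [c, hE, Ev, LinearMap.lTensor_tmul, LinearEquiv.trans_apply, TensorProduct.comm_tmul,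
        LinearEquiv.restrictScalars_apply, AlgebraTensorModule.cancelBaseChange_symm_tmul,
        Module.Basis.baseChange_repr_tmul, Algebra.smul_def, map_mul, RingHom.algebraMap_toAlgebra,
        RingHom.comp_apply, AlgHom.toRingHom_eq_coe, RingHom.coe_coe, AlgHom.toLinearMap_apply, V]
  rw [key, hz v, map_zero, map_zero]
  rfl

section Dual

variable (K : Precoverage Scheme.{u}) {R : Type u} [CommRing R]
  [(QuotSh.J K (Spec (CommRingCat.of R))).Subcanonical]

/-- A character over `Spec A` trivial on every `Spec (B v)` is trivial. -/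
theorem dual_res_injective {F A : Type u} [Field F] [CommRing A] [Algebra R F] [Algebra R A]
    [Algebra F A] [IsScalarTower R F A] {ι : Type*} {B : ι → Type u}
    [∀ v, CommRing (B v)] [∀ v, Algebra R (B v)] (χ : ∀ v, A →ₐ[R] B v)
    (hχ : ∀ a, (∀ v, χ v a = 0) → a = 0)
    (G : Over (Spec (CommRingCat.of R))) [GrpObj G] [IsCommMonObj G]
    (φ : (CGrpSh2.dualSh K (CGrpSh.pts K G)).obj.obj (op (AdFn.specOf (algebraMap R A))))
    (h : ∀ v, (CGrpSh2.dualSh K (CGrpSh.pts K G)).obj.map
      (AdFn.specOfHom _ _ (χ v).toRingHom (χ v).comp_algebraMap).op φ = 0) :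
    φ = 0 := by
  let T := AdFn.specOf (algebraMap R A)
  let P : Over (Spec (CommRingCat.of R)) := Over.mk (pullback.fst G.hom T.hom ≫ G.hom)
  let πT : P ⟶ T := Over.homMk (pullback.snd G.hom T.hom) pullback.condition.symm
  let univ : P ⟶ G := Over.homMk (pullback.fst G.hom T.hom) rfl
  let x := φ.hom.app (op (Over.mk πT)) (ULift.up (Additive.ofMul univ))
  have hx : x = 0 := by
    refine ULift.ext _ _ (Additive.toMul.injective (Over.OverMorphism.ext ?_))
    let 𝒰 := G.left.affineCover
    have : IsAffine (Red.Gm (Spec (CommRingCat.of R))).left :=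
      inferInstanceAs (IsAffine (pullback
        ((Spec (CommRingCat.of (MonoidAlgebra (ULift.{u} ℤ) (Multiplicative ℤ)))) ↘ Spec (CommRingCat.of (ULift.{u} ℤ)))
        (specULiftZIsTerminal.from (Spec (CommRingCat.of R)))))
    refine (Scheme.Pullback.openCoverOfLeft 𝒰 G.hom T.hom).hom_ext _ _ fun i => ?_
    obtain ⟨β, hβ⟩ : ∃ β : CommRingCat.of R ⟶ _, Spec.map β = 𝒰.f i ≫ G.hom :=
      ⟨_, Spec.map_preimage _⟩
    obtain ⟨M', e⟩ : ∃ M' : CommRingCat.{u}, Nonempty (Spec M' ≅ 𝒰.X i) := ⟨_, ⟨Iso.refl _⟩⟩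
    obtain ⟨e⟩ := e
    obtain ⟨β', hβ'⟩ : ∃ β : CommRingCat.of R ⟶ M', Spec.map β = e.hom ≫ 𝒰.f i ≫ G.hom :=
      ⟨_, Spec.map_preimage _⟩
    let : Algebra R M' := β'.hom.toAlgebra
    let d : Spec (CommRingCat.of ((M' : Type u) ⊗[R] A)) ≅ pullback (𝒰.f i ≫ G.hom) T.hom :=
      (pullbackSpecIso R M' A).symm ≪≫ asIso (pullback.map
        (Spec.map (CommRingCat.ofHom (algebraMap R M'))) (Spec.map (CommRingCat.ofHom (algebraMap R A)))
        (𝒰.f i ≫ G.hom) T.hom e.hom (𝟙 _) (𝟙 _) (by rw [Category.comp_id]; exact hβ')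
        (by simp [T]))
    refine (cancel_epi d.hom).1 ?_
    refine hom_ext_of_jointlyInjective
      (fun v => (Algebra.TensorProduct.map (AlgHom.id R M') (χ v)).toRingHom)
      (fun z hz => tensor_jointlyInjective (K := F) χ hχ z hz) fun v => ?_
    let w : Spec (CommRingCat.of ((M' : Type u) ⊗[R] B v)) ⟶ pullback G.hom T.hom :=
      Spec.map (CommRingCat.ofHom (Algebra.TensorProduct.map (AlgHom.id R M') (χ v)).toRingHom) ≫
        d.hom ≫ (Scheme.Pullback.openCoverOfLeft 𝒰 G.hom T.hom).f i
    let W : Over (Spec (CommRingCat.of R)) := Over.mk (w ≫ P.hom)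
    let q : W ⟶ P := Over.homMk w rfl
    let Tv := AdFn.specOf (algebraMap R (B v))
    let g : Tv ⟶ T := AdFn.specOfHom _ _ (χ v).toRingHom (χ v).comp_algebraMap
    have hw : Spec.map (CommRingCat.ofHom
        (Algebra.TensorProduct.includeRight : B v →ₐ[R] (M' : Type u) ⊗[R] B v).toRingHom) ≫ g.left =
          w ≫ πT.left := by
      simp only [w, d, πT, g, T, AdFn.specOfHom, Over.homMk_left, Scheme.Pullback.openCoverOfLeft_f,
        Iso.trans_hom, Iso.symm_hom, asIso_hom, Category.assoc, limit.lift_π, PullbackCone.mk_π_app,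
        Category.comp_id]
      rw [pullbackSpecIso_inv_snd, ← Spec.map_comp, ← Spec.map_comp]
      congr 1
    let πv : W ⟶ Tv := Over.homMk (Spec.map (CommRingCat.ofHom
        (Algebra.TensorProduct.includeRight : B v →ₐ[R] (M' : Type u) ⊗[R] B v).toRingHom)) (by
      rw [← Over.w g, ← Category.assoc, hw, Category.assoc, Over.w πT]
      rfl)
    have e1 : πv ≫ g = q ≫ πT := Over.OverMorphism.ext hw
    let qq : (Over.map g).obj (Over.mk πv) ⟶ Over.mk πT := Over.homMk q e1.symm
    have hnat := ConcreteCategory.congr_hom (φ.hom.naturality qq.op) (ULift.up (Additive.ofMul univ))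
    have hv : φ.hom.app (op ((Over.map g).obj (Over.mk πv))) = 0 :=
      congrArg (fun ψ => ψ.hom.app (op (Over.mk πv))) (h v)
    rw [ConcreteCategory.comp_apply, ConcreteCategory.comp_apply, hv] at hnat
    have h0 := (congrArg (fun y => y.down.toMul.left) (hnat.symm.trans
      (map_zero (((CGrpSh2.Gm K (Spec (CommRingCat.of R))).over T).obj.map qq.op).hom).symm))
    simp only [← Category.assoc]
    exact h0
  refine ObjectProperty.hom_ext _ (NatTrans.ext (funext fun ⟨W⟩ =>
    AddCommGrpCat.ext fun y => ?_))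
  obtain ⟨y⟩ := y
  let y' : W.left ⟶ G := Additive.toMul y
  let l : W.left ⟶ P := Over.homMk (pullback.lift y'.left W.hom.left (by
    rw [Over.w, Over.w])) (by
      show _ ≫ pullback.fst _ _ ≫ G.hom = _
      rw [pullback.lift_fst_assoc, Over.w])
  let l' : W ⟶ Over.mk πT := Over.homMk l (Over.OverMorphism.ext (pullback.lift_snd _ _ _))
  have hnat := ConcreteCategory.congr_hom (φ.hom.naturality l'.op) (ULift.up (Additive.ofMul univ))
  have hy : ((CGrpSh.pts K G).over T).obj.map l'.op (ULift.up (Additive.ofMul univ)) =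
      ULift.up y :=
    ULift.ext _ _ (Over.OverMorphism.ext (pullback.lift_fst _ _ _))
  rw [ConcreteCategory.comp_apply, ConcreteCategory.comp_apply] at hnat
  erw [hy] at hnat
  exact hnat.trans ((congrArg _ hx).trans (map_zero _))

end Dual

end Groth.Agent.AdelePts32
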